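import Mathlib

/-!
Comparison of Mathlib's left-derived `Ext R C n` with `Abelian.Ext`, natural in both arguments.
-/

namespace Groth.Agent.ExtCompare

universe v u

open CategoryTheory CategoryTheory.Limits Opposite CategoryTheory.Abelian

variable {R : Type v} [CommRing R] {C : Type u} [Category.{v} C] [Abelian C] [Linear R C]
  [EnoughProjectives C] [HasExt.{v} C]

section Beta

variable {X : C} (P : ProjectiveResolution X) (Y : C) (n : ℕ)

omit [EnoughProjectives C] in
theorem extMk_smul {m : ℕ} (hm : n + 1 = m) (r : R) (f : P.complex.X n ⟶ Y)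
    (hf : P.complex.d m n ≫ f = 0) :
    P.extMk (r • f) m hm (by rw [Linear.comp_smul, hf, smul_zero]) = r • P.extMk f m hm hf := by
  rw [Ext.smul_eq_comp_mk₀, ProjectiveResolution.extMk_comp_mk₀]
  congr 1
  rw [Linear.comp_smul, Category.comp_id]

/-- The map underlying a cocycle. -/
noncomputable def cocycleHom (x : (P.complex.linearYonedaObj R Y).cycles n) : P.complex.X n ⟶ Y :=
  (P.complex.linearYonedaObj R Y).iCycles n x

omit [EnoughProjectives C] [HasExt.{v} C] in
theorem d_comp_cocycleHom (x : (P.complex.linearYonedaObj R Y).cycles n) :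
    P.complex.d (n + 1) n ≫ cocycleHom P Y n x = 0 :=
  congrArg (fun φ => φ.hom x) ((P.complex.linearYonedaObj R Y).iCycles_d n (n + 1))

omit [EnoughProjectives C] [HasExt.{v} C] in
theorem cocycleHom_add (x y : (P.complex.linearYonedaObj R Y).cycles n) :
    cocycleHom P Y n (x + y) = cocycleHom P Y n x + cocycleHom P Y n y :=
  map_add _ x y

omit [EnoughProjectives C] [HasExt.{v} C] in
theorem cocycleHom_smul (r : R) (x : (P.complex.linearYonedaObj R Y).cycles n) :
    cocycleHom P Y n (r • x) = r • cocycleHom P Y n x :=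
  map_smul _ r x

/-- The map sending a cocycle to its class in `Ext`. -/
noncomputable def cyclesToExt :
    ↑((P.complex.linearYonedaObj R Y).cycles n) →ₗ[R] Ext X Y n where
  toFun x := P.extMk (cocycleHom P Y n x) (n + 1) rfl (d_comp_cocycleHom P Y n x)
  map_add' x y := by
    rw [ProjectiveResolution.add_extMk]
    simp only [cocycleHom_add]
  map_smul' r x := by
    rw [RingHom.id_apply, ← extMk_smul]
    simp only [cocycleHom_smul]

omit [EnoughProjectives C] in
theorem toCycles_comp :
    (P.complex.linearYonedaObj R Y).toCycles ((ComplexShape.up ℕ).prev n) n ≫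
      ModuleCat.ofHom (cyclesToExt P Y n) = 0 := by
  ext g
  have hi : (P.complex.linearYonedaObj R Y).iCycles n
      ((P.complex.linearYonedaObj R Y).toCycles ((ComplexShape.up ℕ).prev n) n g) =
      (P.complex.linearYonedaObj R Y).d ((ComplexShape.up ℕ).prev n) n g :=
    congrArg (fun φ => φ.hom g) ((P.complex.linearYonedaObj R Y).toCycles_i ((ComplexShape.up ℕ).prev n) n)
  show P.extMk _ (n + 1) rfl (d_comp_cocycleHom P Y n _) = 0
  cases n with
  | zero =>
    refine Eq.trans ?_ (P.extMk_zero (n := 0) 1 rfl)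
    congr 1
    refine hi.trans ?_
    rw [HomologicalComplex.shape _ _ _ (by simp)]
    rfl
  | succ p =>
    rw [ProjectiveResolution.extMk_eq_zero_iff (p := p) (hp := rfl)]
    generalize hj : (ComplexShape.up ℕ).prev (p + 1) = j at g hi ⊢
    obtain rfl : p = j := by rw [← hj]; simp
    exact ⟨g, hi.symm⟩

/-- The comparison of homology of the Hom complex with `Ext`. -/
noncomputable def homologyToExt :
    (P.complex.linearYonedaObj R Y).homology n ⟶ ModuleCat.of R (Ext X Y n) :=
  ((P.complex.linearYonedaObj R Y).homologyIsCokernel _ n rfl).desc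
    (CokernelCofork.ofπ (ModuleCat.ofHom (cyclesToExt P Y n)) (toCycles_comp P Y n))

omit [EnoughProjectives C] in
theorem homologyπ_homologyToExt :
    (P.complex.linearYonedaObj R Y).homologyπ n ≫ homologyToExt P Y n =
      ModuleCat.ofHom (cyclesToExt P Y n) :=
  ((P.complex.linearYonedaObj R Y).homologyIsCokernel _ n rfl).fac _ WalkingParallelPair.one

omit [EnoughProjectives C] [HasExt.{v} C] in
theorem homologyπ_surjective :
    Function.Surjective ((P.complex.linearYonedaObj R Y).homologyπ n) :=
  (ModuleCat.epi_iff_surjective _).1 inferInstance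

omit [EnoughProjectives C] in
theorem extMk_zero_injective {f : P.complex.X 0 ⟶ Y} {hf : P.complex.d 1 0 ≫ f = 0}
    (h : P.extMk f 1 rfl hf = 0) : f = 0 := by
  rw [← P.extEquivCohomologyClass.apply_eq_iff_eq, ProjectiveResolution.extEquivCohomologyClass_extMk,
    ProjectiveResolution.extEquivCohomologyClass_zero,
    CochainComplex.HomComplex.CohomologyClass.mk_eq_zero_iff,
    CochainComplex.HomComplex.Cocycle.toSingleMk_mem_coboundaries_iff _ _ _ _ _ 1 (by lia)] at h
  obtain ⟨g, hg⟩ := h
  rw [IsZero.eq_of_src (CochainComplex.isZero_of_isStrictlyLE P.cochainComplex 0 1 (by lia)) g 0,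
    comp_zero] at hg
  rw [← cancel_epi (P.cochainComplexXIso (-((0 : ℕ) : ℤ)) 0 rfl).hom, ← hg, comp_zero]

omit [EnoughProjectives C] in
theorem homologyToExt_bijective : Function.Bijective (homologyToExt (R := R) P Y n) := by
  have hπ : ∀ x, homologyToExt P Y n ((P.complex.linearYonedaObj R Y).homologyπ n x) =
      cyclesToExt P Y n x := fun x =>
    congrArg (fun φ => φ.hom x) (homologyπ_homologyToExt P Y n)
  refine ⟨(injective_iff_map_eq_zero _).2 fun z hz => ?_, fun α => ?_⟩
  · obtain ⟨x, rfl⟩ := homologyπ_surjective P Y n z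
    rw [hπ] at hz
    change P.extMk _ (n + 1) rfl (d_comp_cocycleHom P Y n x) = 0 at hz
    have hinj : Function.Injective ((P.complex.linearYonedaObj R Y).iCycles n) :=
      (ModuleCat.mono_iff_injective _).1 inferInstance
    cases n with
    | zero =>
      have h0 : x = 0 := hinj ((extMk_zero_injective P Y hz).trans (map_zero _).symm)
      rw [h0, map_zero]
    | succ p =>
      rw [ProjectiveResolution.extMk_eq_zero_iff (p := p) (hp := rfl)] at hz
      obtain ⟨g, hg⟩ := hz
      have hx : x = (P.complex.linearYonedaObj R Y).toCycles p (p + 1) g := by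
        refine hinj ?_
        refine hg.symm.trans ?_
        exact (congrArg (fun φ => φ.hom g) ((P.complex.linearYonedaObj R Y).toCycles_i p (p + 1))).symm
      rw [hx]
      exact congrArg (fun φ => φ.hom g) ((P.complex.linearYonedaObj R Y).toCycles_comp_homologyπ p (p + 1))
  · obtain ⟨f, hf, rfl⟩ := P.extMk_surjective α (n + 1) rfl
    let k : ModuleCat.of R R ⟶ (P.complex.linearYonedaObj R Y).X n :=
      ModuleCat.ofHom (LinearMap.toSpanSingleton R _ f)
    have hk : k ≫ (P.complex.linearYonedaObj R Y).d n (n + 1) = 0 := by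
      apply ModuleCat.hom_ext
      apply LinearMap.ext_ring
      show P.complex.d (n + 1) n ≫ ((1 : R) • f) = 0
      rw [one_smul, hf]
    refine ⟨(P.complex.linearYonedaObj R Y).homologyπ n
      ((P.complex.linearYonedaObj R Y).liftCycles k (n + 1) (by simp) hk (1 : R)), ?_⟩
    rw [hπ]
    show P.extMk _ (n + 1) rfl (d_comp_cocycleHom P Y n _) = P.extMk f (n + 1) rfl hf
    congr 1
    exact (congrArg (fun φ => φ.hom (1 : R))
      ((P.complex.linearYonedaObj R Y).liftCycles_i k (n + 1) (by simp) hk)).trans (one_smul R f)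

instance : IsIso (homologyToExt (R := R) P Y n) :=
  (ConcreteCategory.isIso_iff_bijective _).2 (homologyToExt_bijective P Y n)

/-- Old `Ext` computed as `Abelian.Ext` through a projective resolution. -/
noncomputable def extIsoOfResolution :
    ((_root_.Ext R C n).obj (op X)).obj Y ≅ ModuleCat.of R (Ext X Y n) :=
  P.isoExt n Y ≪≫ asIso (homologyToExt P Y n)

end Beta

section Naturality

variable {X X' : C} (P : ProjectiveResolution X) (P' : ProjectiveResolution X') (n : ℕ)

omit [EnoughProjectives C] in
theorem homologyToExt_naturality {Y Y' : C} {g : X' ⟶ X} (φ : ProjectiveResolution.Hom P' P g)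
    (f : Y ⟶ Y') (Φ : P.complex.linearYonedaObj R Y ⟶ P'.complex.linearYonedaObj R Y')
    (hΦ : ∀ h : P.complex.X n ⟶ Y, Φ.f n h = φ.hom.f n ≫ h ≫ f)
    (x : (P.complex.linearYonedaObj R Y).homology n) :
    homologyToExt P' Y' n (HomologicalComplex.homologyMap Φ n x) =
      (Ext.mk₀ g).comp ((homologyToExt P Y n x : Ext X Y n).comp (Ext.mk₀ f) (add_zero _))
        (zero_add _) := by
  obtain ⟨z, rfl⟩ := homologyπ_surjective P Y n x
  have h1 : HomologicalComplex.homologyMap Φ n ((P.complex.linearYonedaObj R Y).homologyπ n z) =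
      (P'.complex.linearYonedaObj R Y').homologyπ n (HomologicalComplex.cyclesMap Φ n z) :=
    congrArg (fun ψ => ψ.hom z) (HomologicalComplex.homologyπ_naturality Φ n)
  have h2 : homologyToExt P' Y' n ((P'.complex.linearYonedaObj R Y').homologyπ n
      (HomologicalComplex.cyclesMap Φ n z)) = cyclesToExt P' Y' n (HomologicalComplex.cyclesMap Φ n z) :=
    congrArg (fun ψ => ψ.hom (HomologicalComplex.cyclesMap Φ n z)) (homologyπ_homologyToExt P' Y' n)
  have h3 : homologyToExt P Y n ((P.complex.linearYonedaObj R Y).homologyπ n z) = cyclesToExt P Y n z :=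
    congrArg (fun ψ => ψ.hom z) (homologyπ_homologyToExt P Y n)
  rw [h1, h2, h3]
  show P'.extMk (cocycleHom P' Y' n (HomologicalComplex.cyclesMap Φ n z)) (n + 1) rfl
      (d_comp_cocycleHom P' Y' n _) = (Ext.mk₀ g).comp
        ((P.extMk (cocycleHom P Y n z) (n + 1) rfl (d_comp_cocycleHom P Y n z)).comp (Ext.mk₀ f) (add_zero _))
        (zero_add _)
  rw [ProjectiveResolution.extMk_comp_mk₀, ProjectiveResolution.mk₀_comp_extMk _ _ _ _ φ]
  congr 1
  exact (congrArg (fun ψ => ψ.hom z) (HomologicalComplex.cyclesMap_i Φ n)).trans (hΦ _)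

omit [HasExt.{v} C] in
theorem homologyUnop_inv_naturality {A B : ChainComplex (ModuleCat.{v} R)ᵒᵖ ℕ} (φ : A ⟶ B) :
    (HomologicalComplex.homologyMap φ n).unop ≫ (A.homologyUnop n).inv =
      (B.homologyUnop n).inv ≫
        HomologicalComplex.homologyMap ((HomologicalComplex.unopFunctor _ _).map φ.op) n := by
  exact (CommSq.horiz_inv (f := B.homologyUnop n) (i := A.homologyUnop n)
    ⟨congrArg Quiver.Hom.unop (HomologicalComplex.homologyOp_hom_naturality
      ((HomologicalComplex.unopFunctor _ _).map φ.op) n)⟩).w.symm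

omit [Linear R C] [EnoughProjectives C] [HasExt.{v} C] [Abelian C] [CommRing R] in
theorem comm2 {D : Type*} [Category D] {A B E A' B' E' : D} (a : A ⟶ A') (b : B ⟶ B') (c : E ⟶ E')
    (i : A ⟶ B) (j : B ⟶ E) (i' : A' ⟶ B') (j' : B' ⟶ E') (h1 : a ≫ i' = i ≫ b)
    (h2 : b ≫ j' = j ≫ c) : a ≫ (i' ≫ j') = (i ≫ j) ≫ c := by
  rw [reassoc_of% h1, h2, Category.assoc]

theorem extIsoOfResolution_naturality_right {Y Y' : C} (f : Y ⟶ Y') (x : ((_root_.Ext R C n).obj (op X)).obj Y) :
    (extIsoOfResolution P Y' n).hom (((_root_.Ext R C n).obj (op X)).map f x) =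
      ((extIsoOfResolution P Y n).hom x : Ext X Y n).comp (Ext.mk₀ f) (add_zero _) := by
  let α := ((linearYoneda R C).map f).rightOp
  let φ := (NatTrans.mapHomologicalComplex α (ComplexShape.down ℕ)).app P.complex
  have h : ((_root_.Ext R C n).obj (op X)).map f ≫ (P.isoExt n Y').hom =
      (P.isoExt n Y).hom ≫ HomologicalComplex.homologyMap
        ((HomologicalComplex.unopFunctor _ _).map φ.op) n := by
    have e : ((_root_.Ext R C n).obj (op X)).map f =
        ((NatTrans.leftDerived α n).app X).unop := rfl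
    rw [e]
    have hsq : (P.isoLeftDerivedObj ((linearYoneda R C).obj Y').rightOp n).inv ≫
        (NatTrans.leftDerived α n).app X = (HomologicalComplex.homologyMap φ n) ≫
          (P.isoLeftDerivedObj ((linearYoneda R C).obj Y).rightOp n).inv := by
      rw [ProjectiveResolution.leftDerived_app_eq α P n, Iso.inv_hom_id_assoc]
      rfl
    exact comm2 _ (HomologicalComplex.homologyMap φ n).unop _ _ _ _ _
      (congrArg Quiver.Hom.unop hsq) (homologyUnop_inv_naturality n φ)
  have h' := congrArg (fun ψ => homologyToExt P Y' n (ψ.hom x)) h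
  refine h'.trans ?_
  refine (homologyToExt_naturality P P n (g := 𝟙 X) ⟨𝟙 _, by rw [ChainComplex.single₀_map_f_zero]; exact (Category.id_comp _).trans (Category.comp_id _).symm⟩ f
    ((HomologicalComplex.unopFunctor _ _).map φ.op) (fun h => (Category.id_comp _).symm) _).trans ?_
  rw [Ext.mk₀_id_comp]
  rfl

theorem extIsoOfResolution_naturality_left {Y : C} {g : X' ⟶ X}
    (x : ((_root_.Ext R C n).obj (op X)).obj Y) :
    (extIsoOfResolution P' Y n).hom (((_root_.Ext R C n).map g.op).app Y x) =
      (Ext.mk₀ g).comp ((extIsoOfResolution P Y n).hom x : Ext X Y n) (zero_add _) := by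
  let F := ((linearYoneda R C).obj Y).rightOp
  let ψ := ProjectiveResolution.lift g P' P
  have hψ : ψ.f 0 ≫ P.π.f 0 = P'.π.f 0 ≫ g := by
    rw [← HomologicalComplex.comp_f, ProjectiveResolution.lift_commutes, HomologicalComplex.comp_f,
      ChainComplex.single₀_map_f_zero]
    rfl
  let φ := (F.mapHomologicalComplex (ComplexShape.down ℕ)).map ψ
  have h : ((_root_.Ext R C n).map g.op).app Y ≫ (P'.isoExt n Y).hom =
      (P.isoExt n Y).hom ≫ HomologicalComplex.homologyMap
        ((HomologicalComplex.unopFunctor _ _).map φ.op) n := by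
    have e : ((_root_.Ext R C n).map g.op).app Y = ((F.leftDerived n).map g).unop := rfl
    rw [e]
    exact comm2 _ (HomologicalComplex.homologyMap φ n).unop _ _ _ _ _
      (congrArg Quiver.Hom.unop
        (ProjectiveResolution.isoLeftDerivedObj_inv_naturality g P' P ψ hψ F n))
      (homologyUnop_inv_naturality n φ)
  have h' := congrArg (fun ω => homologyToExt P' Y n (ω.hom x)) h
  refine h'.trans ?_
  refine (homologyToExt_naturality P P' n (g := g) ⟨ψ, by rw [ChainComplex.single₀_map_f_zero]; exact hψ⟩ (𝟙 Y)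
    ((HomologicalComplex.unopFunctor _ _).map φ.op) (fun h => by rw [Category.comp_id]; rfl) _).trans ?_
  rw [Ext.comp_mk₀_id]
  rfl

end Naturality

variable (R) in
/-- The comparison isomorphism. -/
noncomputable def extEquiv (X Y : C) (n : ℕ) :
    ↑(((_root_.Ext R C n).obj (op X)).obj Y) ≃ₗ[R] Ext X Y n :=
  (extIsoOfResolution (projectiveResolution X) Y n).toLinearEquiv

theorem extEquiv_map {X Y Y' : C} {n : ℕ} (f : Y ⟶ Y')
    (x : ((_root_.Ext R C n).obj (op X)).obj Y) :
    extEquiv R X Y' n (((_root_.Ext R C n).obj (op X)).map f x) =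
      (extEquiv R X Y n x).comp (Ext.mk₀ f) (add_zero _) :=
  extIsoOfResolution_naturality_right _ n f x

theorem extEquiv_app {X X' Y : C} {n : ℕ} (g : X' ⟶ X)
    (x : ((_root_.Ext R C n).obj (op X)).obj Y) :
    extEquiv R X' Y n (((_root_.Ext R C n).map g.op).app Y x) =
      (Ext.mk₀ g).comp (extEquiv R X Y n x) (zero_add _) :=
  extIsoOfResolution_naturality_left _ _ n x

end Groth.Agent.ExtCompare
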